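import Mathlib
import Groth.Agent.Lib.FlatModel.Descent

/-!
# Fibrewise injective maps from finitely presented localized modules are universally injective
-/

set_option autoImplicit false
set_option linter.style.haveILetI false
set_option maxHeartbeats 4000000
universe u

open TensorProduct IsLocalRing

namespace GrothLib.FibreUnivInj

attribute [local instance] MvPolynomial.algebraMvPolynomial

/-- A map from a free module to a flat module over a local ring, injective modulo the maximal ideal,
is universally injective. -/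
theorem rTensor_injective_of_indep {R : Type u} [CommRing R] [IsLocalRing R] {k : Type u} [Field k] [Algebra R k]
    (hk : ∀ r : R, algebraMap R k r = 0 ↔ r ∈ maximalIdeal R) (hks : Function.Surjective (algebraMap R k))
    {F M' Mk : Type u} [AddCommGroup F] [Module R F] [AddCommGroup M'] [Module R M'] [Module.Flat R M']
    [AddCommGroup Mk] [Module k Mk] [Module R Mk] [IsScalarTower R k Mk] {ι : Type u} (b : Module.Basis ι R F)
    (φ : F →ₗ[R] M') (g : M' →ₗ[R] Mk) (hind : LinearIndependent k fun i => g (φ (b i)))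
    (Q : Type u) [AddCommGroup Q] [Module R Q] : Function.Injective (φ.lTensor Q) := by
  classical
  refine (injective_iff_map_eq_zero _).2 fun x hx => ?_
  obtain ⟨q, rfl⟩ := (TensorProduct.equivFinsuppOfBasisRight b).symm.surjective x
  simp only [TensorProduct.equivFinsuppOfBasisRight_symm_apply, Finsupp.sum, map_sum, LinearMap.lTensor_tmul] at hx ⊢
  let m : q.support → Q := fun i => q i
  let n : q.support → M' := fun i => φ (b i)
  have hmn : ∑ i, m i ⊗ₜ[R] n i = (0 : Q ⊗[R] M') := by
    rw [← hx, ← Finset.sum_coe_sort q.support]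
  obtain ⟨l, a, y, hay, ham⟩ := TensorProduct.vanishesTrivially_of_sum_tmul_eq_zero_of_rTensor_injective R
    (Module.Flat.rTensor_preserves_injective_linearMap _ (Submodule.injective_subtype _)) hmn
  -- the reduction of the coefficient matrix has independent rows
  let A : Matrix q.support (Fin l) R := fun i j => a i j
  have hrows : LinearIndependent k (A.map (algebraMap R k)).row := by
    have h1 : LinearIndependent k fun i : q.support => g (φ (b i)) := hind.comp _ Subtype.val_injective
    let T : (Fin l → k) →ₗ[k] Mk := Fintype.linearCombination k fun j => g (y j)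
    refine LinearIndependent.of_comp T ?_
    have he : (T ∘ (A.map (algebraMap R k)).row) = fun i : q.support => g (φ (b i)) := funext fun i => by
      show T _ = g (n i)
      rw [hay i, map_sum]
      simp only [T, Fintype.linearCombination_apply, Matrix.row, Matrix.map_apply, map_smul, algebraMap_smul, A]
    rw [he]
    exact h1
  obtain ⟨Bk, hBk⟩ : ∃ Bk : Matrix (Fin l) q.support k, A.map (algebraMap R k) * Bk = 1 :=
    by
      obtain ⟨g', hg'⟩ := (Matrix.toLinearMapRight' (A.map (algebraMap R k))).exists_leftInverse_of_injective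
        (LinearMap.ker_eq_bot.2 (Matrix.vecMul_injective_iff.2 hrows))
      refine ⟨LinearMap.toMatrixRight' g', Matrix.toLinearMapRight'.injective ?_⟩
      rw [Matrix.toLinearMapRight'_mul, Matrix.toLinearMapRight'_one]
      exact (congrArg (· ∘ₗ _) (Matrix.toLinearMapRight'.apply_symm_apply g')).trans hg'
  choose s hs using hks
  let B : Matrix (Fin l) q.support R := Bk.map s
  have hAB : (A * B).map (algebraMap R k) = 1 := by
    rw [Matrix.map_mul, show B.map (algebraMap R k) = Bk from Matrix.ext fun i j => hs _, hBk]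
  have hdet : IsUnit (A * B).det := by
    refine IsLocalRing.notMem_maximalIdeal.1 fun hmem => ?_
    have h1 := (hk _).2 hmem
    rw [RingHom.map_det, RingHom.mapMatrix_apply, hAB, Matrix.det_one] at h1
    exact one_ne_zero h1
  obtain ⟨C, hC⟩ : ∃ C, (A * B) * C = 1 := ⟨_, Matrix.mul_nonsing_inv _ hdet⟩
  have hm0 : ∀ i, m i = 0 := fun i => by
    have h2 : ∑ j, (B * C) j i • (∑ i', A i' j • m i') = 0 :=
      Finset.sum_eq_zero fun j _ => by rw [ham j, smul_zero]
    simp only [Finset.smul_sum, smul_smul] at h2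
    rw [Finset.sum_comm] at h2
    simp only [← Finset.sum_smul] at h2
    have h3 : ∀ i', ∑ j, (B * C) j i * A i' j = (1 : Matrix q.support q.support R) i' i := fun i' => by
      rw [← hC, Matrix.mul_assoc, Matrix.mul_apply]
      exact Finset.sum_congr rfl fun j _ => mul_comm _ _
    simp only [h3, Matrix.one_apply, ite_smul, one_smul, zero_smul, Finset.sum_ite_eq', Finset.mem_univ, if_true] at h2
    exact h2
  exact Finset.sum_eq_zero fun i hi => by rw [show q i = 0 from hm0 ⟨i, hi⟩, TensorProduct.zero_tmul]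

section Model

variable {A : Type u} [CommRing A] {n : ℕ}

/-- A finitely presented module over a polynomial ring, with a given endomorphism by a polynomial, comes from a
finitely generated subring. -/
theorem exists_model (N₁ : Type u) [AddCommGroup N₁] [Module (MvPolynomial (Fin n) A) N₁] [Module A N₁]
    [IsScalarTower A (MvPolynomial (Fin n) A) N₁] [Module.FinitePresentation (MvPolynomial (Fin n) A) N₁]
    (h : MvPolynomial (Fin n) A) :
    ∃ (A₀ : Subalgebra ℤ A) (_ : IsNoetherianRing A₀) (N₀ : Type u) (_ : AddCommGroup N₀) (_ : Module A₀ N₀)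
      (γ : N₀ →ₗ[A₀] N₀) (e : A ⊗[A₀] N₀ ≃ₗ[A] N₁), ∀ y, e (1 ⊗ₜ γ y) = h • e (1 ⊗ₜ y) := by
  classical
  obtain ⟨T, hT⟩ := GrothLib.FlatModel.exists_model' N₁ (Fin.elim0 : Fin 0 → MvPolynomial (Fin n) A) fun j => j.elim0
  let T' : Finset A := T ∪ h.support.image h.coeff
  let A₀ : Subalgebra ℤ A := Algebra.adjoin ℤ (T' : Set A)
  have hTr : (T : Set A) ⊆ Set.range (algebraMap A₀ A) := fun x hx =>
    ⟨⟨x, Algebra.subset_adjoin (Finset.mem_coe.2 (Finset.mem_union_left _ hx))⟩, rfl⟩
  obtain ⟨r, K, -, ⟨eM⟩⟩ := hT A₀ hTr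
  obtain ⟨h₀, hh₀⟩ : ∃ h₀, MvPolynomial.map (algebraMap A₀ A) h₀ = h := by
    refine ⟨∑ d ∈ h.support.attach, MvPolynomial.monomial d.1
      (⟨h.coeff d.1, Algebra.subset_adjoin (Finset.mem_coe.2 (Finset.mem_union_right _ (Finset.mem_image_of_mem _ d.2)))⟩ : A₀), ?_⟩
    rw [map_sum]
    simp only [MvPolynomial.map_monomial]
    exact (Finset.sum_attach h.support (fun d => MvPolynomial.monomial d (h.coeff d))).trans h.support_sum_monomial_coeff
  let P₀ := MvPolynomial (Fin n) A₀
  let N₀ := (Fin r → P₀) ⧸ K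
  let E := Algebra.IsPushout.cancelBaseChange A₀ A P₀ (MvPolynomial (Fin n) A) N₀
  let e : A ⊗[A₀] N₀ ≃ₗ[A] N₁ :=
    { E.symm.toAddEquiv.trans eM.toAddEquiv with
      map_smul' := fun c x => by
        show eM (E.symm (c • x)) = c • eM (E.symm x)
        exact (congrArg eM (E.symm.map_smul c x)).trans (eM.toLinearMap.map_smul_of_tower c _) }
  refine ⟨A₀, isNoetherianRing_of_fg (Subalgebra.fg_adjoin_finset T'), N₀, inferInstance, inferInstance,
    LinearMap.restrictScalars A₀ (LinearMap.lsmul P₀ N₀ h₀), e, fun y => ?_⟩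
  have hE : ∀ z : N₀, E.symm ((1 : A) ⊗ₜ[A₀] z) = (1 : MvPolynomial (Fin n) A) ⊗ₜ[P₀] z := fun z => by
    rw [LinearEquiv.symm_apply_eq]
    exact (Algebra.IsPushout.cancelBaseChange_tmul A₀ A P₀ (MvPolynomial (Fin n) A) N₀ z).symm
  show eM (E.symm (1 ⊗ₜ (h₀ • y))) = h • eM (E.symm (1 ⊗ₜ y))
  rw [hE, hE, ← map_smul eM, TensorProduct.smul_tmul', TensorProduct.tmul_smul, ← algebraMap_smul
    (MvPolynomial (Fin n) A) h₀, TensorProduct.smul_tmul']
  congr 2
  rw [show algebraMap P₀ (MvPolynomial (Fin n) A) h₀ = h from hh₀]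

end Model

section Main

variable {A : Type u} [CommRing A] {n : ℕ} {N₁ N M : Type u}
  [AddCommGroup N₁] [Module (MvPolynomial (Fin n) A) N₁] [Module A N₁] [IsScalarTower A (MvPolynomial (Fin n) A) N₁]
  [AddCommGroup N] [Module (MvPolynomial (Fin n) A) N] [Module A N] [IsScalarTower A (MvPolynomial (Fin n) A) N]
  [AddCommGroup M] [Module A M]
  (S : Submonoid (MvPolynomial (Fin n) A)) (ι : N₁ →ₗ[MvPolynomial (Fin n) A] N) [IsLocalizedModule S ι]

local notation "P" => MvPolynomial (Fin n) A

/-- Division by an element of the monoid on the localized module. -/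
noncomputable def sdiv (s : S) : N →ₗ[P] N := ((IsLocalizedModule.map_units ι s).unit⁻¹ : _)

theorem smul_sdiv (s : S) (x : N) : (s : P) • sdiv S ι s x = x :=
  Module.End.isUnit_apply_inv_apply_of_isUnit (IsLocalizedModule.map_units ι s) x

theorem sdiv_smul (s : S) (x : N) : sdiv S ι s ((s : P) • x) = x := by
  rw [map_smul, smul_sdiv]

/-- The elements `ι x / s`. -/
noncomputable def frac (s : S) : N₁ →ₗ[A] N := (sdiv S ι s ∘ₗ ι).restrictScalars A

theorem frac_apply (s : S) (x : N₁) : frac S ι s x = sdiv S ι s (ι x) := rfl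

theorem frac_mul (s t : S) : frac S ι s = frac S ι (t * s) ∘ₗ (LinearMap.lsmul P N₁ (t : P)).restrictScalars A := by
  ext x
  simp only [LinearMap.comp_apply, LinearMap.restrictScalars_apply, LinearMap.lsmul_apply, frac_apply, map_smul]
  have h1 : ((t * s : S) : P) • sdiv S ι (t * s) (ι x) = ι x := smul_sdiv S ι _ _
  refine (congrArg (sdiv S ι s) h1.symm).trans ?_
  rw [Submonoid.coe_mul, mul_comm, mul_smul, sdiv_smul]

theorem exists_frac (Q : Type u) [AddCommGroup Q] [Module A Q] (w : Q ⊗[A] N) :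
    ∃ (s : S) (x : Q ⊗[A] N₁), (frac S ι s).lTensor Q x = w := by
  induction w using TensorProduct.induction_on with
  | zero => exact ⟨1, 0, map_zero _⟩
  | tmul q y =>
    obtain ⟨⟨x, s⟩, hx⟩ := IsLocalizedModule.surj S ι y
    refine ⟨s, q ⊗ₜ x, ?_⟩
    rw [LinearMap.lTensor_tmul, frac_apply, show ι x = (s : P) • y from hx.symm, sdiv_smul]
  | add a b ha hb =>
    obtain ⟨s, x, rfl⟩ := ha
    obtain ⟨t, y, rfl⟩ := hb
    refine ⟨t * s, ((LinearMap.lsmul P N₁ (t : P)).restrictScalars A).lTensor Q x +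
      ((LinearMap.lsmul P N₁ (s : P)).restrictScalars A).lTensor Q y, ?_⟩
    rw [map_add, ← LinearMap.lTensor_comp_apply, ← LinearMap.lTensor_comp_apply, ← frac_mul, mul_comm t s, ← frac_mul]

variable (u : N →ₗ[A] M)

/-- The assertion at one prime: universal injectivity on modules over a local quotient. -/
theorem injective_of_killed [Module.Flat A M] (p : Ideal A) [p.IsPrime]
    (hu : Function.Injective (u.lTensor p.ResidueField)) [Module.FinitePresentation P N₁]
    (h : P) (hS : h ∈ S)
    (hker : ∀ d : p.ResidueField ⊗[A] N₁, (ι.restrictScalars A).lTensor _ d = 0 →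
      ((LinearMap.lsmul P N₁ h).restrictScalars A).lTensor _ d = 0) :
    ∃ I : Ideal (Localization.AtPrime p), I.FG ∧ I ≠ ⊤ ∧
      ∀ (Q : Type u) [AddCommGroup Q] [Module A Q] [Module (Localization.AtPrime p ⧸ I) Q]
        [IsScalarTower A (Localization.AtPrime p ⧸ I) Q], Function.Injective (u.lTensor Q) := by
  classical
  obtain ⟨A₀, hA₀, N₀, _, _, γ, e, he⟩ := exists_model N₁ h
  let q₀ : Ideal A₀ := p.comap (algebraMap A₀ A)
  let Rp := Localization.AtPrime p
  let I : Ideal Rp := q₀.map ((algebraMap A Rp).comp (algebraMap A₀ A))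
  have hIle : I ≤ maximalIdeal Rp := by
    rw [Ideal.map_le_iff_le_comap]
    intro x hx
    exact (IsLocalization.AtPrime.to_map_mem_maximal_iff Rp p _).2 hx
  have hItop : I ≠ ⊤ := fun h' => (IsLocalRing.maximalIdeal.isMaximal Rp).ne_top (top_le_iff.1 (h' ▸ hIle))
  refine ⟨I, Ideal.FG.map (IsNoetherian.noetherian q₀) _, hItop, fun Q _ _ _ _ => ?_⟩
  let R := Rp ⧸ I
  let k := p.ResidueField
  let κ := q₀.ResidueField
  haveI : Nontrivial R := Ideal.Quotient.nontrivial_iff.2 hItop
  haveI : IsLocalRing R := .of_surjective' (Ideal.Quotient.mk I) Ideal.Quotient.mk_surjective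
  -- algebra structures
  haveI : IsScalarTower A₀ A R := inferInstance
  haveI : IsScalarTower A₀ A k := inferInstance
  let ρ : R →+* k := Ideal.Quotient.lift I (IsLocalRing.residue Rp) fun x hx => residue_eq_zero_iff _ |>.2 (hIle hx)
  letI : Algebra R k := ρ.toAlgebra
  haveI : IsScalarTower A R k :=
    have h' : @IsScalarTower A R k Algebra.toSMul Algebra.toSMul Algebra.toSMul := IsScalarTower.of_algebraMap_eq fun a => rfl
    h'
  haveI : IsScalarTower A₀ R k :=
    have h' : @IsScalarTower A₀ R k Algebra.toSMul Algebra.toSMul Algebra.toSMul := IsScalarTower.of_algebraMap_eq fun a => rfl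
    h'
  have hq0 : q₀ ≤ RingHom.ker (algebraMap A₀ R) := fun x hx => by
    show Ideal.Quotient.mk I (algebraMap A Rp (algebraMap A₀ A x)) = 0
    exact Ideal.Quotient.eq_zero_iff_mem.2 (Ideal.mem_map_of_mem _ hx)
  have hqu : q₀.primeCompl ≤ (IsUnit.submonoid R).comap (algebraMap A₀ R) := fun x hx => by
    show IsUnit (Ideal.Quotient.mk I (algebraMap A Rp (algebraMap A₀ A x)))
    exact (IsLocalization.map_units Rp (⟨algebraMap A₀ A x, hx⟩ : p.primeCompl)).map _
  obtain ⟨σ, hσ⟩ : ∃ σ : κ →+* R, ∀ x, σ (algebraMap A₀ κ x) = algebraMap A₀ R x :=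
    ⟨Ideal.ResidueField.lift q₀ (algebraMap A₀ R) hq0 hqu, Ideal.ResidueField.lift_algebraMap q₀ (algebraMap A₀ R) hq0 hqu⟩
  letI : Algebra κ R := σ.toAlgebra
  haveI : IsScalarTower A₀ κ R := IsScalarTower.of_algebraMap_eq fun x =>
    (hσ x).symm
  letI : Algebra κ k := (ρ.comp σ).toAlgebra
  haveI : IsScalarTower κ R k := IsScalarTower.of_algebraMap_eq' rfl
  haveI : IsScalarTower A₀ κ k := IsScalarTower.of_algebraMap_eq fun x =>
    (congrArg ρ (hσ x)).symm
  haveI : IsScalarTower R R k := ⟨fun a b c => mul_smul a b c⟩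
  have hk : ∀ r : R, algebraMap R k r = 0 ↔ r ∈ maximalIdeal R := fun r => by
    obtain ⟨x, rfl⟩ := Ideal.Quotient.mk_surjective r
    show IsLocalRing.residue Rp x = 0 ↔ _
    rw [residue_eq_zero_iff, ← IsLocalRing.map_maximalIdeal_of_surjective (Ideal.Quotient.mk I) Ideal.Quotient.mk_surjective,
      Ideal.mem_quotient_iff_mem_sup, sup_eq_left.2 hIle]
  have hks : Function.Surjective (algebraMap R k) := fun y => by
    obtain ⟨x, rfl⟩ := residue_surjective (R := Rp) y
    exact ⟨Ideal.Quotient.mk I x, rfl⟩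
  -- the module over the field
  let V := κ ⊗[A₀] N₀
  let γV : V →ₗ[κ] V := γ.baseChange κ
  obtain ⟨W, hW⟩ := Submodule.exists_isCompl (LinearMap.ker γV)
  let γW : W →ₗ[κ] V := γV ∘ₗ W.subtype
  have hγW : Function.Injective γW := (injective_iff_map_eq_zero _).2 fun w hw => by
    have h' : (w : V) ∈ LinearMap.ker γV ⊓ W := ⟨hw, w.2⟩
    rw [hW.inf_eq_bot] at h'
    exact Subtype.ext h'
  -- comparison with the module
  obtain ⟨ER, hER⟩ : ∃ ER : R ⊗[κ] V ≃ₗ[R] R ⊗[A] N₁,
      ∀ (r : R) (c : κ) (y : N₀), ER (r ⊗ₜ (c ⊗ₜ y)) = (c • r) ⊗ₜ e (1 ⊗ₜ y) :=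
    ⟨AlgebraTensorModule.cancelBaseChange A₀ κ R R N₀ ≪≫ₗ (AlgebraTensorModule.cancelBaseChange A₀ A R R N₀).symm ≪≫ₗ
      e.baseChange A R _ _, fun r c y => rfl⟩
  obtain ⟨Ek, hEk⟩ : ∃ Ek : k ⊗[κ] V ≃ₗ[k] k ⊗[A] N₁,
      ∀ (r : k) (c : κ) (y : N₀), Ek (r ⊗ₜ (c ⊗ₜ y)) = (c • r) ⊗ₜ e (1 ⊗ₜ y) :=
    ⟨AlgebraTensorModule.cancelBaseChange A₀ κ k k N₀ ≪≫ₗ (AlgebraTensorModule.cancelBaseChange A₀ A k k N₀).symm ≪≫ₗ
      e.baseChange A k _ _, fun r c y => rfl⟩
  let gN : R ⊗[A] N₁ →ₗ[R] k ⊗[A] N₁ :=
    AlgebraTensorModule.map (IsScalarTower.toAlgHom R R k).toLinearMap (LinearMap.id : N₁ →ₗ[A] N₁)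
  let gM : R ⊗[A] M →ₗ[R] k ⊗[A] M :=
    AlgebraTensorModule.map (IsScalarTower.toAlgHom R R k).toLinearMap (LinearMap.id : M →ₗ[A] M)
  have hg : ∀ v : V, gN (ER (1 ⊗ₜ v)) = Ek (1 ⊗ₜ v) := fun v => by
    induction v using TensorProduct.induction_on with
    | zero => simp only [tmul_zero, map_zero]
    | tmul c y =>
      rw [hER, hEk]
      show (algebraMap R k (c • (1 : R))) ⊗ₜ[A] e (1 ⊗ₜ y) = _
      rw [Algebra.smul_def, mul_one, Algebra.smul_def, mul_one, IsScalarTower.algebraMap_apply κ R k]
    | add a b ha hb => simp only [tmul_add, map_add, ha, hb]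
  let hA : N₁ →ₗ[A] N₁ := (LinearMap.lsmul P N₁ h).restrictScalars A
  have hRγ : ∀ v : V, hA.baseChange R (ER (1 ⊗ₜ v)) = ER (1 ⊗ₜ γV v) := fun v => by
    induction v using TensorProduct.induction_on with
    | zero => simp only [tmul_zero, map_zero]
    | tmul c y =>
      rw [show γV (c ⊗ₜ y) = c ⊗ₜ γ y from rfl, hER, hER, LinearMap.baseChange_tmul, he]
      rfl
    | add a b ha hb => simp only [tmul_add, map_add, ha, hb]
  have hkγ : ∀ v : k ⊗[κ] V, hA.baseChange k (Ek v) = Ek (γV.baseChange k v) := fun v => by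
    induction v using TensorProduct.induction_on with
    | zero => simp only [map_zero]
    | tmul r v =>
      induction v using TensorProduct.induction_on with
      | zero => simp only [tmul_zero, map_zero]
      | tmul c y =>
        rw [LinearMap.baseChange_tmul, show γV (c ⊗ₜ y) = c ⊗ₜ γ y from rfl, hEk, hEk, LinearMap.baseChange_tmul, he]
        rfl
      | add a b ha hb => simp only [tmul_add, map_add, ha, hb]
    | add a b ha hb => simp only [map_add, ha, hb]
  -- the free part and the part killed by `h`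
  let EW : R ⊗[κ] W →ₗ[R] R ⊗[A] N₁ := ER.toLinearMap ∘ₗ W.subtype.baseChange R
  let E0 : R ⊗[κ] LinearMap.ker γV →ₗ[R] R ⊗[A] N₁ := ER.toLinearMap ∘ₗ (LinearMap.ker γV).subtype.baseChange R
  have hE0 : hA.baseChange R ∘ₗ E0 = 0 := by
    refine LinearMap.ext fun z => ?_
    induction z using TensorProduct.induction_on with
    | zero => rw [map_zero, map_zero]
    | tmul r v =>
      rw [show r ⊗ₜ[κ] v = r • ((1 : R) ⊗ₜ[κ] v) by rw [TensorProduct.smul_tmul', smul_eq_mul, mul_one],
        map_smul, LinearMap.zero_apply]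
      show r • hA.baseChange R (ER (1 ⊗ₜ (v : V))) = 0
      rw [hRγ, show γV v = 0 from v.2, tmul_zero, map_zero, smul_zero]
    | add a b ha hb => rw [map_add, ha, hb]; exact (zero_add _)
  have hsurj : Function.Surjective (EW.coprod E0) := by
    rw [← LinearMap.range_eq_top, LinearMap.range_coprod, eq_top_iff]
    intro z hz
    clear hz
    obtain ⟨t, rfl⟩ := ER.surjective z
    induction t using TensorProduct.induction_on with
    | zero => rw [map_zero]; exact zero_mem _
    | tmul r v =>
      obtain ⟨⟨v0, w⟩, hvw⟩ := (Submodule.prodEquivOfIsCompl _ _ hW).surjective v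
      have hv : v = (v0 : V) + (w : V) := hvw.symm
      rw [hv, tmul_add, map_add]
      exact add_mem (Submodule.mem_sup_right ⟨r ⊗ₜ v0, rfl⟩) (Submodule.mem_sup_left ⟨r ⊗ₜ w, rfl⟩)
    | add a b ha hb => rw [map_add]; exact add_mem ha hb
  haveI : Module.Flat R (R ⊗[A] M) := inferInstance
  refine (injective_iff_map_eq_zero _).2 fun w hw => ?_
  obtain ⟨s, x, rfl⟩ := exists_frac S ι Q w
  -- the fibre of the free part
  let θ : N₁ →ₗ[A] M := u ∘ₗ frac S ι s
  let φ : R ⊗[κ] W →ₗ[R] R ⊗[A] M := θ.baseChange R ∘ₗ EW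
  let bW := Module.Basis.ofVectorSpace κ W
  let bF := bW.baseChange R
  have hinj : Function.Injective (θ.baseChange k ∘ₗ Ek.toLinearMap ∘ₗ W.subtype.baseChange k) := by
    refine (injective_iff_map_eq_zero _).2 fun y hy => ?_
    set d := Ek (W.subtype.baseChange k y)
    have hy' : θ.lTensor k d = 0 := hy
    rw [LinearMap.lTensor_comp_apply] at hy'
    have hd1 : (frac S ι s).lTensor k d = 0 := hu (hy'.trans (map_zero _).symm)
    have hd2 : (ι.restrictScalars A).lTensor k d = 0 := by
      have : ι.restrictScalars A = (LinearMap.lsmul P N (s : P)).restrictScalars A ∘ₗ frac S ι s := by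
        ext z
        exact (smul_sdiv S ι s (ι z)).symm
      rw [this, LinearMap.lTensor_comp_apply, hd1, map_zero]
    have hd3 : hA.baseChange k d = 0 := hker d hd2
    rw [hkγ, LinearEquiv.map_eq_zero_iff] at hd3
    have hd4 : γW.baseChange k y = 0 := by
      rw [LinearMap.baseChange_comp]
      exact hd3
    exact Module.Flat.lTensor_preserves_injective_linearMap (M := k) γW hγW (hd4.trans (map_zero _).symm)
  have hind : LinearIndependent k fun i => gM (φ (bF i)) := by
    have h1 := (bW.baseChange k).linearIndependent.map' _ (LinearMap.ker_eq_bot.2 hinj)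
    have he' : (fun i => gM (φ (bF i))) = (θ.baseChange k ∘ₗ Ek.toLinearMap ∘ₗ W.subtype.baseChange k) ∘ bW.baseChange k := by
      funext i
      have hnat : ∀ z, gM (θ.baseChange R z) = θ.baseChange k (gN z) := fun z => by
        induction z using TensorProduct.induction_on with
        | zero => simp only [map_zero]
        | tmul r y => rfl
        | add a b ha hb => simp only [map_add, ha, hb]
      simp only [φ, bF, EW, Function.comp_apply, LinearMap.comp_apply, Module.Basis.baseChange_apply,
        LinearEquiv.coe_coe, LinearMap.baseChange_tmul]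
      rw [hnat, hg]
    rw [he']
    exact h1
  have hφ := rTensor_injective_of_indep hk hks bF φ gM hind Q
  -- conclude
  let cM := AlgebraTensorModule.cancelBaseChange A R R Q M
  let c1 := AlgebraTensorModule.cancelBaseChange A R R Q N₁
  let cN := AlgebraTensorModule.cancelBaseChange A R R Q N
  obtain ⟨x', rfl⟩ := c1.surjective x
  obtain ⟨ab, rfl⟩ := LinearMap.lTensor_surjective Q hsurj x'
  have hnat : ∀ {X : Type u} [AddCommGroup X] [Module A X] (f : N₁ →ₗ[A] X) (z : Q ⊗[R] (R ⊗[A] N₁)),
      f.lTensor Q (c1 z) = AlgebraTensorModule.cancelBaseChange A R R Q X ((f.baseChange R).lTensor Q z) := fun f z => by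
    induction z using TensorProduct.induction_on with
    | zero => simp only [map_zero]
    | tmul q y =>
      induction y using TensorProduct.induction_on with
      | zero => simp only [tmul_zero, map_zero]
      | tmul r v => rfl
      | add a b ha hb => simp only [tmul_add, map_add, ha, hb]
    | add a b ha hb => simp only [map_add, ha, hb]
  -- the part killed by `h` disappears
  have hfrac0 : (frac S ι s).baseChange R ∘ₗ E0 = 0 := by
    have h1 : frac S ι s = frac S ι (⟨h, hS⟩ * s) ∘ₗ hA := frac_mul S ι s ⟨h, hS⟩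
    rw [h1, LinearMap.baseChange_comp, LinearMap.comp_assoc, hE0, LinearMap.comp_zero]
  have hθ0 : θ.baseChange R ∘ₗ E0 = 0 := by
    rw [LinearMap.baseChange_comp, LinearMap.comp_assoc, hfrac0, LinearMap.comp_zero]
  have hsplit : ∀ {Y : Type u} [AddCommGroup Y] [Module R Y] (f : R ⊗[A] N₁ →ₗ[R] Y) (hf : f ∘ₗ E0 = 0),
      f.lTensor Q ((EW.coprod E0).lTensor Q ab) = (f ∘ₗ EW).lTensor Q ((LinearMap.fst R _ _).lTensor Q ab) := by
    intro Y _ _ f hf
    rw [← LinearMap.lTensor_comp_apply, ← LinearMap.lTensor_comp_apply, LinearMap.comp_coprod, hf]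
    congr 2
    ext v <;> simp
  rw [← LinearMap.lTensor_comp_apply, show u ∘ₗ frac S ι s = θ from rfl, hnat, hsplit _ hθ0,
    LinearEquiv.map_eq_zero_iff] at hw
  have hab : (LinearMap.fst R _ _).lTensor Q ab = 0 := hφ (hw.trans (map_zero _).symm)
  rw [hnat, hsplit _ hfrac0, hab, map_zero, map_zero]

/-- A fibre kernel is killed by one element of the monoid. -/
theorem exists_ker_killed (p : Ideal A) [p.IsPrime] [Module.Finite P N₁] :
    ∃ h ∈ S, ∀ d : p.ResidueField ⊗[A] N₁, (ι.restrictScalars A).lTensor _ d = 0 →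
      ((LinearMap.lsmul P N₁ h).restrictScalars A).lTensor _ d = 0 := by
  classical
  let k := p.ResidueField
  let Pk := MvPolynomial (Fin n) k
  let c1 := Algebra.IsPushout.cancelBaseChange A k P Pk N₁
  let c := Algebra.IsPushout.cancelBaseChange A k P Pk N
  have hc1 : ∀ x, c1 ((1 : Pk) ⊗ₜ x) = (1 : k) ⊗ₜ x := Algebra.IsPushout.cancelBaseChange_tmul A k P Pk N₁
  have hc : ∀ x, c ((1 : Pk) ⊗ₜ x) = (1 : k) ⊗ₜ x := Algebra.IsPushout.cancelBaseChange_tmul A k P Pk N
  let G := ι.baseChange Pk
  -- transport along the identification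
  have hP : ∀ (a : k) (x : N₁) (f : N₁ →ₗ[P] N₁), c1 (f.baseChange Pk (a • ((1 : Pk) ⊗ₜ x))) = a ⊗ₜ f x := fun a x f => by
    rw [LinearMap.map_smul_of_tower, LinearMap.baseChange_tmul, map_smul, hc1, TensorProduct.smul_tmul', smul_eq_mul, mul_one]
  have key : ∀ (f : N₁ →ₗ[P] N₁) (d : k ⊗[A] N₁), (f.restrictScalars A).lTensor k d = c1 (f.baseChange Pk (c1.symm d)) := by
    intro f d
    induction d using TensorProduct.induction_on with
    | zero => simp only [map_zero]
    | tmul a x =>
      have : c1.symm (a ⊗ₜ x) = a • ((1 : Pk) ⊗ₜ[P] x) := by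
        rw [LinearEquiv.symm_apply_eq, map_smul, hc1, TensorProduct.smul_tmul', smul_eq_mul, mul_one]
      rw [this, hP]; rfl
    | add a b ha hb => simp only [map_add, ha, hb]
  have keyι : ∀ d : k ⊗[A] N₁, (ι.restrictScalars A).lTensor k d = c (G (c1.symm d)) := by
    intro d
    induction d using TensorProduct.induction_on with
    | zero => simp only [map_zero]
    | tmul a x =>
      have : c1.symm (a ⊗ₜ x) = a • ((1 : Pk) ⊗ₜ[P] x) := by
        rw [LinearEquiv.symm_apply_eq, map_smul, hc1, TensorProduct.smul_tmul', smul_eq_mul, mul_one]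
      rw [this, LinearMap.map_smul_of_tower, LinearMap.baseChange_tmul, map_smul, hc, TensorProduct.smul_tmul',
        smul_eq_mul, mul_one]
      rfl
    | add a b ha hb => simp only [map_add, ha, hb]
  -- the kernel is finitely generated
  haveI : IsNoetherian Pk (Pk ⊗[P] N₁) := isNoetherian_of_isNoetherianRing_of_finite Pk _
  obtain ⟨gens, hgens⟩ := IsNoetherian.noetherian (LinearMap.ker G)
  have hkill : ∀ d ∈ gens, ∃ s : S, (s : P) • d = 0 := fun d hd => by
    have hd' : G d = 0 := (hgens ▸ Submodule.subset_span hd : d ∈ LinearMap.ker G)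
    haveI : IsLocalizedModule S (AlgebraTensorModule.rTensor P Pk ι) := inferInstance
    let f1 := (TensorProduct.comm P Pk N₁)
    have h0 : AlgebraTensorModule.rTensor P Pk ι (f1 d) = 0 := by
      have hh : ∀ z, AlgebraTensorModule.rTensor P Pk ι (f1 z) = TensorProduct.comm P Pk N (G z) := fun z => by
        induction z using TensorProduct.induction_on with
        | zero => simp only [map_zero]
        | tmul a x => rfl
        | add a b ha hb => simp only [map_add, ha, hb]
      rw [hh, hd', map_zero]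
    obtain ⟨s, hs⟩ := (IsLocalizedModule.eq_zero_iff S (AlgebraTensorModule.rTensor P Pk ι)).1 h0
    refine ⟨s, f1.injective ?_⟩
    rw [map_smul, map_zero]
    exact hs
  choose s hs using hkill
  refine ⟨((∏ d : gens, s d.1 d.2 : S) : P), (∏ d : gens, s d.1 d.2 : S).2, fun d hd => ?_⟩
  rw [key]
  rw [keyι, LinearEquiv.map_eq_zero_iff] at hd
  rw [LinearEquiv.map_eq_zero_iff]
  have hmem : c1.symm d ∈ Submodule.span Pk (gens : Set (Pk ⊗[P] N₁)) := hgens ▸ hd
  suffices ∀ z ∈ Submodule.span Pk (gens : Set (Pk ⊗[P] N₁)),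
      (LinearMap.lsmul P N₁ ((∏ d : gens, s d.1 d.2 : S) : P)).baseChange Pk z = 0 from this _ hmem
  intro z hz
  induction hz using Submodule.span_induction with
  | mem z hz =>
    have hb : ∀ (r : P) (z : Pk ⊗[P] N₁), (LinearMap.lsmul P N₁ r).baseChange Pk z = r • z := fun r z => by
      induction z using TensorProduct.induction_on with
      | zero => simp only [map_zero, smul_zero]
      | tmul a x => rw [LinearMap.baseChange_tmul, LinearMap.lsmul_apply, TensorProduct.tmul_smul]
      | add a b ha hb => simp only [map_add, smul_add, ha, hb]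
    rw [hb, ← Finset.prod_erase_mul _ _ (Finset.mem_univ (⟨z, hz⟩ : gens)), Submonoid.coe_mul, mul_smul, hs z hz, smul_zero]
  | zero => exact map_zero _
  | add a b _ _ ha hb => rw [map_add, ha, hb, add_zero]
  | smul c z _ hz => rw [map_smul, hz, smul_zero]

theorem injective_of_exact {Q₁ Q₂ Q₃ : Type u} [AddCommGroup Q₁] [Module A Q₁] [AddCommGroup Q₂] [Module A Q₂]
    [AddCommGroup Q₃] [Module A Q₃] [Module.Flat A M] (f : Q₁ →ₗ[A] Q₂) (g : Q₂ →ₗ[A] Q₃) (hf : Function.Injective f)
    (hfg : Function.Exact f g) (hg : Function.Surjective g) (h1 : Function.Injective (u.lTensor Q₁))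
    (h3 : Function.Injective (u.lTensor Q₃)) : Function.Injective (u.lTensor Q₂) := by
  refine (injective_iff_map_eq_zero _).2 fun x hx => ?_
  have e : ∀ {X Y : Type u} [AddCommGroup X] [Module A X] [AddCommGroup Y] [Module A Y] (φ : X →ₗ[A] Y) (z : X ⊗[A] N),
      u.lTensor Y (φ.rTensor N z) = φ.rTensor M (u.lTensor X z) := fun φ z => by
    rw [← LinearMap.comp_apply, ← LinearMap.comp_apply, LinearMap.lTensor_comp_rTensor, LinearMap.rTensor_comp_lTensor]
  have h0 : g.rTensor N x = 0 := h3 (by rw [e, hx, map_zero, map_zero])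
  obtain ⟨x', rfl⟩ := (rTensor_exact N hfg hg x).1 h0
  rw [e] at hx
  have h2 : u.lTensor Q₁ x' = 0 :=
    Module.Flat.rTensor_preserves_injective_linearMap f hf (hx.trans (map_zero _).symm)
  rw [h1 (h2.trans (map_zero _).symm), map_zero]

include S ι in
/-- Fibrewise injectivity gives universal injectivity. -/
theorem univInj [Module.FinitePresentation P N₁] [Module.Flat A N] [Module.Flat A M]
    (hu : ∀ (p : Ideal A) [p.IsPrime], Function.Injective (u.lTensor p.ResidueField))
    (Q : Type u) [AddCommGroup Q] [Module A Q] : Function.Injective (u.lTensor Q) := by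
  classical
  refine (injective_iff_map_eq_zero _).2 fun z hz => ?_
  by_contra hz0
  let J : Ideal A := LinearMap.ker (LinearMap.toSpanSingleton A (Q ⊗[A] N) z)
  have hJmem : ∀ a, a ∈ J ↔ a • z = 0 := fun a => Iff.rfl
  have hJ : J ≠ ⊤ := fun h => hz0 (by
    have := (hJmem 1).1 (h ▸ Submodule.mem_top); rwa [one_smul] at this)
  obtain ⟨m, hm, hJm⟩ := Ideal.exists_le_maximal J hJ
  obtain ⟨p, hp, -⟩ := Ideal.exists_minimalPrimes_le (J := m) hJm
  haveI : p.IsPrime := hp.1.1
  obtain ⟨h, hS, hker⟩ := exists_ker_killed S ι p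
  obtain ⟨I, hIfg, hItop, hI⟩ := injective_of_killed S ι u p (hu p) h hS hker
  let Rp := Localization.AtPrime p
  -- modules killed by a power of `I`
  have hpow : ∀ (j : ℕ) (X : Type u) [AddCommGroup X] [Module A X] [Module Rp X] [IsScalarTower A Rp X],
      (∀ r ∈ I ^ j, ∀ x : X, r • x = 0) → Function.Injective (u.lTensor X) := by
    intro j
    induction j with
    | zero =>
      intro X _ _ _ _ h0
      haveI : Subsingleton X := ⟨fun a b => by
        rw [← one_smul Rp a, ← one_smul Rp b, h0 1 (by simp) a, h0 1 (by simp) b]⟩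
      exact Function.injective_of_subsingleton _
    | succ j ih =>
      intro X _ _ _ _ hX
      let X1 : Submodule Rp X := I • ⊤
      refine injective_of_exact u (X1.subtype.restrictScalars A) (X1.mkQ.restrictScalars A) X1.injective_subtype
        (LinearMap.exact_subtype_mkQ X1) X1.mkQ_surjective (ih X1 fun r hr x => Subtype.ext ?_) ?_
      · show r • (x : X) = 0
        refine Submodule.smul_induction_on x.2 (fun a ha y _ => ?_) fun a b ha hb => by rw [smul_add, ha, hb, add_zero]
        rw [smul_smul]; exact hX _ (pow_succ I j ▸ Ideal.mul_mem_mul hr ha) y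
      · letI : Module (Rp ⧸ I) (X ⧸ X1) := Module.IsTorsionBySet.module (R := Rp) (I := I) (M := X ⧸ X1) fun y r => by
          obtain ⟨y, rfl⟩ := X1.mkQ_surjective y
          exact (Submodule.Quotient.mk_eq_zero X1).2 (Submodule.smul_mem_smul r.2 Submodule.mem_top)
        haveI : IsScalarTower A (Rp ⧸ I) (X ⧸ X1) := IsScalarTower.of_algebraMap_smul (R := A) (A := Rp ⧸ I) fun a x => by
          obtain ⟨x, rfl⟩ := X1.mkQ_surjective x
          exact congrArg X1.mkQ (algebraMap_smul (R := A) Rp a x)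
        exact hI _
  -- the element in the localization
  let Qp := Rp ⊗[A] Q
  let toQ : Q →ₗ[A] Qp := TensorProduct.mk A Rp Q 1
  haveI : IsLocalizedModule p.primeCompl toQ := inferInstance
  let z' : Qp ⊗[A] N := toQ.rTensor N z
  haveI : IsLocalizedModule p.primeCompl (toQ.rTensor N) :=
    inferInstanceAs (IsLocalizedModule p.primeCompl (AlgebraTensorModule.rTensor A N toQ))
  have hz' : z' ≠ 0 := fun h' => by
    obtain ⟨c, hc⟩ := (IsLocalizedModule.eq_zero_iff p.primeCompl (toQ.rTensor N)).1 h'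
    exact c.2 (hp.1.2 ((hJmem c).2 hc))
  have hzu : u.lTensor Qp z' = 0 := by
    rw [← LinearMap.comp_apply, LinearMap.lTensor_comp_rTensor, ← LinearMap.rTensor_comp_lTensor, LinearMap.comp_apply, hz, map_zero]
  let J' : Ideal Rp := LinearMap.ker (LinearMap.toSpanSingleton Rp (Qp ⊗[A] N) z')
  have hrad : maximalIdeal Rp ≤ J'.radical := by
    rw [Ideal.radical_eq_sInf]
    refine le_sInf ?_
    rintro P' ⟨hle, hP'⟩
    have h1 : J ≤ P'.comap (algebraMap A Rp) := fun a ha => hle (by
      show algebraMap A Rp a • z' = 0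
      rw [algebraMap_smul, ← map_smul (toQ.rTensor N), (hJmem a).1 ha, map_zero])
    haveI := hP'
    have h2 : P'.comap (algebraMap A Rp) ≤ p := by
      exact (Ideal.comap_mono (IsLocalRing.le_maximalIdeal hP'.ne_top)).trans_eq
        (IsLocalization.AtPrime.under_maximalIdeal Rp p)
    have h3 : p ≤ P'.comap (algebraMap A Rp) := hp.2 ⟨Ideal.IsPrime.comap _, h1⟩ h2
    rw [← IsLocalization.AtPrime.map_eq_maximalIdeal p Rp]
    exact Ideal.map_le_iff_le_comap.2 h3
  obtain ⟨j, hj⟩ := Ideal.exists_pow_le_of_le_radical_of_fg ((IsLocalRing.le_maximalIdeal hItop).trans hrad) hIfg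
  obtain ⟨L, hL⟩ := (hIfg.pow (n := j))
  -- the element comes from the part killed by `I ^ j`
  let Φ : Qp →ₗ[Rp] (L → Qp) := LinearMap.pi fun c => LinearMap.lsmul Rp Qp (c : Rp)
  let X := LinearMap.ker Φ
  have hex : Function.Exact (X.subtype.restrictScalars A) (Φ.restrictScalars A) := LinearMap.exact_subtype_ker_map Φ
  have hΦ : (Φ.restrictScalars A).rTensor N z' = 0 := by
    refine (TensorProduct.piLeft A N (fun _ : L => Qp)).injective ?_
    rw [map_zero]
    funext c
    have hc : (c : Rp) • z' = 0 := hj (hL ▸ Submodule.subset_span c.2)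
    have : ∀ w : Qp ⊗[A] N, TensorProduct.piLeft A N (fun _ : L => Qp) ((Φ.restrictScalars A).rTensor N w) c = (c : Rp) • w := fun w => by
      induction w using TensorProduct.induction_on with
      | zero => simp only [map_zero, smul_zero, Pi.zero_apply]
      | tmul q y => simp [Φ, TensorProduct.smul_tmul']
      | add a b ha hb => simp only [map_add, smul_add, Pi.add_apply, ha, hb]
    rw [this, hc]; rfl
  have hex' := Module.Flat.rTensor_exact (R := A) N (N := X) (N' := Qp) (N'' := L → Qp) hex
  obtain ⟨x, hx⟩ := (hex' z').1 hΦ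
  have hXkill : ∀ r ∈ I ^ j, ∀ y : X, r • y = 0 := by
    intro r hr y
    rw [← hL] at hr
    induction hr using Submodule.span_induction with
    | mem c hc => exact Subtype.ext (congrFun (LinearMap.mem_ker.1 y.2) ⟨c, hc⟩)
    | zero => exact zero_smul _ _
    | add a b _ _ ha hb => rw [add_smul, ha, hb, add_zero]
    | smul a b _ hb => rw [smul_eq_mul, mul_smul, hb, smul_zero]
  have hxu : u.lTensor X x = 0 := by
    refine Module.Flat.rTensor_preserves_injective_linearMap (M := M) (X.subtype.restrictScalars A) X.injective_subtype ?_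
    rw [map_zero, ← LinearMap.comp_apply, LinearMap.rTensor_comp_lTensor, ← LinearMap.lTensor_comp_rTensor, LinearMap.comp_apply, hx, hzu]
  have hinjX : Function.Injective (u.lTensor X) := hpow j X hXkill
  have hx0 : x = 0 := @hinjX x 0 (by rw [hxu, map_zero])
  rw [hx0, map_zero] at hx
  exact hz' hx.symm

end Main

end GrothLib.FibreUnivInj
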